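import Groth.Agent.PnDualLib.ConnSec
import Groth.Agent.SecDivLib.Zero
import Groth.Agent.EffDivSurfLib.Main
import Groth.Agent.ClopenFFLib.Normal
import Groth.Agent.GrTwistLib.Ample
import Groth.Agent.PnHNLib.Main
import Groth.Agent.AffBlowLib.Main
import Groth.Agent.TopDimLib.QuasiFinite
import Groth.Agent.EssZeroLib.OffZeros
import Groth.Agent.CompRootLib.Decomp
import Groth.Agent.AffBlowLib.Closure
import Groth.Agent.S1297
import Groth.Agent.S9673
import Groth.Agent.S0388

/-!
# Hyperplane sections of a proper normal variety mapping onto at least a surface are connected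
-/

set_option autoImplicit false
set_option linter.style.haveILetI false
set_option linter.unusedSectionVars false
set_option maxHeartbeats 1000000
set_option backward.isDefEq.respectTransparency false
set_option backward.isDefEq.respectTransparency.types false
universe u

open CategoryTheory CategoryTheory.Limits AlgebraicGeometry TopologicalSpace Opposite
open TwistLib (genSet)
open AmpleLib AmpleThLib

noncomputable section

namespace ConnHypLib

/-- Preimages of preconnected closed sets under closed surjections with preconnected fibres. -/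
theorem isPreconnected_preimage_closed {α β : Type*} [TopologicalSpace α] [TopologicalSpace β] {f : α → β}
    (hc : IsClosedMap f) (hs : Function.Surjective f) (hf : ∀ b, _root_.IsPreconnected (f ⁻¹' {b}))
    {s : Set β} (hsc : IsClosed (f ⁻¹' s)) (h : _root_.IsPreconnected s) : _root_.IsPreconnected (f ⁻¹' s) := by
  rw [isPreconnected_closed_iff]
  intro t t' ht ht' hsub hne hne'
  obtain ⟨b, hb, hb1, hb2⟩ := (isPreconnected_closed_iff.1 h) (f '' (t ∩ f ⁻¹' s)) (f '' (t' ∩ f ⁻¹' s))
    (hc _ (ht.inter hsc)) (hc _ (ht'.inter hsc))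
    (fun b hb => by
      obtain ⟨a, rfl⟩ := hs b
      rcases hsub (show a ∈ f ⁻¹' s from hb) with h' | h'
      exacts [Or.inl ⟨a, ⟨h', hb⟩, rfl⟩, Or.inr ⟨a, ⟨h', hb⟩, rfl⟩])
    (by
      obtain ⟨a, ha, hat⟩ := hne
      exact ⟨f a, ha, a, ⟨hat, ha⟩, rfl⟩)
    (by
      obtain ⟨a, ha, hat⟩ := hne'
      exact ⟨f a, ha, a, ⟨hat, ha⟩, rfl⟩)
  obtain ⟨a, ⟨hat, -⟩, rfl⟩ := hb1
  obtain ⟨a', ⟨hat', -⟩, ha'⟩ := hb2
  have hfs : f ⁻¹' {f a} ⊆ f ⁻¹' s := fun z hz => by
    show f z ∈ s
    rw [show f z = f a from hz]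
    exact hb
  obtain ⟨z, hz, hz'⟩ := (isPreconnected_closed_iff.1 (hf (f a))) t t' ht ht' (hfs.trans hsub) ⟨a, rfl, hat⟩
    ⟨a', ha', hat'⟩
  exact ⟨z, hfs hz, hz'⟩

/-- The fibres of a geometrically connected morphism are preconnected. -/
theorem isPreconnected_fibre {A B : Scheme.{u}} (f : A ⟶ B) [GeometricallyConnected f] (b : B) :
    _root_.IsPreconnected (f ⁻¹' {b}) := by
  rw [← f.range_fiberι]
  exact isPreconnected_range (f.fiberι b).continuous

theorem eq_unitHom {X : Scheme.{u}} {M : X.Modules} (f : Coh.structureModule X ⟶ M) :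
    f = QCohLib.unitHom M (f.app ⊤ (1 : Γ(X, ⊤))) := by
  apply Scheme.Modules.hom_ext
  intro V
  refine ConcreteCategory.hom_ext _ _ fun (r : Γ(X, V)) => ?_
  refine Eq.trans ?_ (QCohLib.unitHom_app M (f.app ⊤ (1 : Γ(X, ⊤))) V r).symm
  refine Eq.trans ?_ ((congrArg (fun z : Γ(M, V) => r • z) (QCohLib.app_map f (homOfLE (le_top : V ≤ ⊤)) (1 : Γ(X, ⊤)))))
  refine Eq.trans ?_ (QCohLib.app_smul f V r _)
  refine congrArg (f.app V) ?_
  exact ((congrArg (fun z : Γ(X, V) => r * z) (map_one (X.presheaf.map (homOfLE (le_top : V ≤ ⊤)).op).hom)).trans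
    (mul_one r)).symm

/-- A form of degree one generates exactly off its hyperplane. -/
theorem genSet_form {k : Type u} [Field k] {r : ℕ} (hL : PicF.IsInvertible (Twist.twistProjSpace r k 1))
    (a : CohB1.polyGrading r k 1) :
    genSet hL (Twist.globalOf (CohB1.polyGrading r k) (i := 1) a) =
      Proj.basicOpen (CohB1.polyGrading r k) (a : MvPolynomial (Fin (r + 1)) k) := by
  ext x
  obtain ⟨b, hb⟩ := Opens.mem_iSup.mp (show x ∈ ⨆ m, Proj.basicOpen (CohB1.polyGrading r k) (MvPolynomial.X m) by
    rw [AffBlowLib.iSup_basicOpen_X]; trivial)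
  exact TwistLib.genAt_globalOf (CohB1.polyGrading r k) a
    (U := Proj.basicOpen (CohB1.polyGrading r k) (MvPolynomial.X b))
    ⟨1, 0, MvPolynomial.X b, 1, MvPolynomial.isHomogeneous_X k b, SetLike.GradedOne.one_mem, by simp, fun z => z.2,
      fun z h => z.1.isPrime.ne_top ((Ideal.eq_top_iff_one _).mpr h)⟩ hb

/-- A normal integral scheme of dimension at least two has depth two at closed points. -/
theorem two_le_depth_normal {k : Type u} [Field k] {Z : Scheme.{u}} (q : Z ⟶ Spec (CommRingCat.of k))
    [LocallyOfFiniteType q] [IsIntegral Z] (hn : Pi1.IsNormalScheme Z) (hdim : 2 ≤ topologicalKrullDim Z)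
    (x : Z) (hx : IsClosed ({x} : Set Z)) :
    (2 : ℕ∞) ≤ LocCoh.depth (Z.presheaf.stalk x) (Z.presheaf.stalk x) := by
  haveI : IsLocallyNoetherian Z := LocallyOfFiniteType.isLocallyNoetherian q
  haveI : IsDomain (Z.presheaf.stalk x) := (hn x).1
  haveI : IsIntegrallyClosed (Z.presheaf.stalk x) := (hn x).2
  have hd : 2 ≤ ringKrullDim (Z.presheaf.stalk x) := by
    rwa [← FibDimLib.localDim_eq_stalk_of_isClosed q hx, FibDimLib.localDim_of_irreducible q x]
  have h := AlgSpRegLib.min_two_le_depth_of_normal (Z.presheaf.stalk x)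
  rw [min_eq_left (by exact_mod_cast hd)] at h
  exact WithBot.coe_le_coe.1 h

/-- The complement of the preimage of a hyperplane's complement is connected, upstairs. -/
theorem isConnected_compl {k : Type u} [Field k] {Y : Scheme.{u}} [IsIntegral Y] (hn : Pi1.IsNormalScheme Y)
    {r : ℕ} (h : Y ⟶ CohB1.ProjSpace r k) [IsProper h] (hdim : 2 ≤ topologicalKrullDim (Set.range h.base))
    (ℓ : CohB1.polyGrading r k 1) :
    _root_.IsConnected ((h.base ⁻¹' (Proj.basicOpen (CohB1.polyGrading r k) (ℓ : MvPolynomial (Fin (r + 1)) k)).carrier)ᶜ) := by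
  haveI : IsProper (CohB1.ProjSpace.toSpec r k) := ProjDegLib.toSpec_isProper k r
  haveI : IsLocallyNoetherian (CohB1.ProjSpace r k) :=
    LocallyOfFiniteType.isLocallyNoetherian (CohB1.ProjSpace.toSpec r k)
  haveI : IsLocallyNoetherian Y := LocallyOfFiniteType.isLocallyNoetherian (h ≫ CohB1.ProjSpace.toSpec r k)
  haveI : CompactSpace Y := QuasiCompact.compactSpace_of_compactSpace (h ≫ CohB1.ProjSpace.toSpec r k)
  haveI : AlgebraicGeometry.IsNoetherian Y := {}
  haveI : IsFinite h.fromNormalization := Groth.Agent.S1297.result h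
  let f := h.toNormalization
  obtain ⟨hgc, happ⟩ := Groth.Agent.S0388.result h
  haveI := hgc
  haveI : IsProper f := by
    haveI : IsProper (f ≫ h.fromNormalization) := by rw [h.toNormalization_fromNormalization]; infer_instance
    exact IsProper.of_comp f h.fromNormalization
  have hO : ∀ U : h.normalization.Opens, Function.Bijective (f.app U) := fun U => by
    haveI := happ U
    exact ConcreteCategory.bijective_of_isIso _
  haveI hsurj : Surjective f := by
    let U : h.normalization.Opens := ⟨(Set.range f)ᶜ, f.isClosedMap.isClosed_range.isOpen_compl⟩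
    have hU : f ⁻¹ᵁ U = ⊥ := by
      ext x
      simpa [U] using ⟨x, rfl⟩
    haveI : Subsingleton Γ(Y, f ⁻¹ᵁ U) :=
      CommRingCat.subsingleton_of_isTerminal (Y.sheaf.isTerminalOfEqEmpty hU)
    haveI : Subsingleton Γ(h.normalization, U) := (hO U).1.subsingleton
    refine ⟨fun y => ?_⟩
    by_contra hy
    exact not_subsingleton_iff_nontrivial.2 (h.normalization.presheaf.germ U y hy).hom.domain_nontrivial ‹_›
  have hN : Pi1.IsNormalScheme h.normalization :=
    (Groth.Agent.S9673.result h hn
      (fun x => ⟨Set.univ, Filter.univ_mem, by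
        haveI := (NoetherianSpace.finite_irreducibleComponents (α := Y)).to_subtype
        exact Set.toFinite _⟩)).1
  haveI : IrreducibleSpace h.normalization := by
    have hu : IsPreirreducible (Set.univ : Set h.normalization) := by
      rw [← Set.range_eq_univ.2 f.surjective, ← Set.image_univ]
      exact (PreirreducibleSpace.isPreirreducible_univ (X := Y)).image f f.continuous.continuousOn
    exact { toPreirreducibleSpace := ⟨hu⟩, toNonempty := ⟨f (genericPoint Y)⟩ }
  haveI : AlgebraicGeometry.IsReduced h.normalization := ⟨fun U => isReduced_of_injective (f.app U).hom (hO U).1⟩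
  haveI : IsIntegral h.normalization := isIntegral_of_irreducibleSpace_of_isReduced _
  let W := h.normalization
  let ν := h.fromNormalization
  letI : W.Over (Spec (CommRingCat.of k)) := ⟨ν ≫ CohB1.ProjSpace.toSpec r k⟩
  haveI : IsProper (W ↘ Spec (CommRingCat.of k)) :=
    inferInstanceAs (IsProper (ν ≫ CohB1.ProjSpace.toSpec r k))
  have hL := PnHNLib.isInvertible_twist r k 1
  have hA := AmpleDevLib.isAmple_pb ν hL (PnHNLib.isAmple_twist_one r k)
  have hA' := AmpleDevLib.isInvertible_pb ν hL
  let a : Γ(Twist.twistProjSpace r k 1, ⊤) := Twist.globalOf (CohB1.polyGrading r k) (i := 1) ℓ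
  let σ : Coh.structureModule W ⟶ KFlatLib.pb ν (Twist.twistProjSpace r k 1) :=
    SecDivLib.pbSec ν (QCohLib.unitHom _ a)
  have hsupp : ((PicF2.zeroScheme _ σ).support : Set W) = (ν.base ⁻¹' (Proj.basicOpen (CohB1.polyGrading r k)
      (ℓ : MvPolynomial (Fin (r + 1)) k)).carrier)ᶜ := by
    rw [SecDivLib.zeroScheme_pbSec ν hL, Scheme.IdealSheafData.support_comap]
    ext w
    have key := EssZeroLib.notMem_support_iff hL (QCohLib.unitHom _ a) (ν w)
    rw [show (QCohLib.unitHom _ a).app ⊤ (1 : Γ(CohB1.ProjSpace r k, ⊤)) = a from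
      (QCohLib.unitHom_app _ a ⊤ 1).trans ((one_smul _ _).trans (AmpleLib.res_refl _ a))] at key
    rw [TopologicalSpace.Closeds.coe_preimage, Set.mem_preimage, Set.mem_compl_iff]
    show _ ↔ ¬ ν w ∈ Proj.basicOpen (CohB1.polyGrading r k) (ℓ : MvPolynomial (Fin (r + 1)) k)
    rw [← genSet_form hL ℓ]
    exact ⟨fun h hg => key.2 hg h, fun h => by_contra fun h' => h (key.1 h')⟩
  have hf : h.base ⁻¹' (Proj.basicOpen (CohB1.polyGrading r k) (ℓ : MvPolynomial (Fin (r + 1)) k)).carrier =
      f.base ⁻¹' (ν.base ⁻¹' (Proj.basicOpen (CohB1.polyGrading r k) (ℓ : MvPolynomial (Fin (r + 1)) k)).carrier) := by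
    ext y
    rw [Set.mem_preimage, Set.mem_preimage, Set.mem_preimage, ← Scheme.Hom.comp_apply, h.toNormalization_fromNormalization]
  rw [hf, ← Set.preimage_compl, ← hsupp]
  by_cases hne : (genSet hA' (σ.app ⊤ (1 : Γ(W, ⊤))) : Set W).Nonempty
  · haveI : Mono σ := by
      rw [eq_unitHom σ]
      exact CompRootLib.mono_unitHom hA' _ ((genSet hA' (σ.app ⊤ (1 : Γ(W, ⊤)))).2.dense hne)
    have hdimW : 2 ≤ topologicalKrullDim W := by
      rw [Groth.Agent.TopDimLib.topologicalKrullDim_eq_range_of_isFinite ν]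
      have hr : Set.range h.base = Set.range ν.base := by
        refine Eq.trans (congrArg (fun φ : Y ⟶ CohB1.ProjSpace r k => Set.range φ.base)
          h.toNormalization_fromNormalization.symm) ?_
        simp only [Scheme.Hom.comp_base, TopCat.coe_comp, Set.range_comp]
        rw [Set.range_eq_univ.2 f.surjective, Set.image_univ]
      rw [hr] at hdim
      exact hdim
    haveI := PnDualLib.connectedSpace_zeroScheme k hA σ (two_le_depth_normal (W ↘ Spec (CommRingCat.of k)) hN hdimW)
    have hc : _root_.IsConnected ((PicF2.zeroScheme _ σ).support : Set W) := by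
      rw [← (PicF2.zeroScheme _ σ).range_subschemeι]
      exact isConnected_range (PicF2.zeroScheme _ σ).subschemeι.continuous
    refine ⟨hc.1.preimage f.surjective, isPreconnected_preimage_closed f.isClosedMap f.surjective
      (isPreconnected_fibre f) ((PicF2.zeroScheme _ σ).support.isClosed.preimage f.continuous) hc.2⟩
  · have : ((PicF2.zeroScheme _ σ).support : Set W) = Set.univ := Set.eq_univ_of_forall fun w => by
      by_contra hw
      exact hne ⟨w, (EssZeroLib.notMem_support_iff hA' σ w).1 hw⟩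
    rw [this, Set.preimage_univ]
    exact ⟨Set.univ_nonempty, PreconnectedSpace.isPreconnected_univ⟩

end ConnHypLib
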